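import Cfsg.Agent.AltSylow.Product

/-!
A model of the Sylow 2-subgroups of alternating groups.
-/

set_option autoImplicit false

namespace Cfsg.Agent.AltSylow

open Equiv

/-- `v₂(n!) + #(binary digits of n) = n`. -/
theorem val_factorial_add_length (n : ℕ) : padicValNat 2 n.factorial + n.bitIndices.length = n := by
  induction n using Nat.strong_induction_on with
  | _ n ih =>
    rcases Nat.even_or_odd' n with ⟨a, rfl | rfl⟩
    · rcases Nat.eq_zero_or_pos a with rfl | ha
      · simp
      · have := ih a (by omega)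
        rw [padicValNat_factorial_mul, Nat.bitIndices_two_mul, List.length_map]
        omega
    · have := ih a (by omega)
      rw [padicValNat_factorial_mul_add a (by norm_num : 1 < 2), padicValNat_factorial_mul,
        Nat.bitIndices_two_mul_add_one, List.length_cons, List.length_map]
      omega

theorem val_factorial_four (n : ℕ) :
    padicValNat 2 n.factorial = n / 2 + n / 4 + padicValNat 2 (n / 4).factorial := by
  rw [← padicValNat_mul_div_factorial n, padicValNat_factorial_mul, ← padicValNat_mul_div_factorial (n / 2),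
    padicValNat_factorial_mul, Nat.div_div_eq_div_mul]
  ring

/-- The exponents of the wreath factors. -/
abbrev Dig (q : ℕ) := ↥q.bitIndices.toFinset

/-- The sizes. -/
def kq (q : ℕ) (i : Dig q) : ℕ := (i : ℕ) + 2

theorem two_le_kq (q : ℕ) (i : Dig q) : 2 ≤ kq q i := Nat.le_add_left _ _

theorem card_dig (q : ℕ) : Fintype.card (Dig q) = q.bitIndices.length := by
  rw [Fintype.card_coe, List.toFinset_card_of_nodup Nat.bitIndices_nodup]

theorem sum_pow_kq (q : ℕ) : ∑ i : Dig q, 2 ^ kq q i = 4 * q := by
  show ∑ i : Dig q, 2 ^ ((i : ℕ) + 2) = _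
  rw [Finset.sum_coe_sort q.bitIndices.toFinset (fun i => 2 ^ (i + 2))]
  simp only [pow_add]
  rw [← Finset.sum_mul, Finset.sum_toFinset_bitIndices_two_pow]
  ring

theorem sum_exponent (q : ℕ) : (∑ i : Dig q, (2 ^ kq q i - 1)) + q.bitIndices.length = 4 * q := by
  rw [← sum_pow_kq q, ← card_dig q, Fintype.card_eq_sum_ones, ← Finset.sum_add_distrib]
  exact Finset.sum_congr rfl fun i _ => Nat.sub_add_cancel Nat.one_le_two_pow

variable {ι : Type*} [Fintype ι] [DecidableEq ι] (kk : ι → ℕ)

/-- The action on the disjoint union. -/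
def act : PW kk →* Perm (Σ i, Pt (kk i)) :=
  (Perm.sigmaCongrRightHom fun i => Pt (kk i)).comp
    { toFun := fun g i => (g i : Perm (Pt (kk i)))
      map_one' := rfl
      map_mul' := fun _ _ => rfl }

theorem act_injective : Function.Injective (act kk) := by
  intro g h hgh
  have := Perm.sigmaCongrRightHom_injective hgh
  exact funext fun i => Subtype.ext (congrFun this i)

theorem sign_act (g : PW kk) : Perm.sign (act kk g) = tot kk g := by
  have h : Perm.sign.comp (act kk) = tot kk := by
    suffices hs : ∀ i x, Perm.sign (act kk (Pi.mulSingle i x)) = sgn (kk i) x by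
      refine MonoidHom.eq_of_eqOn_top fun g _ => ?_
      exact Subgroup.pi_mem_of_mulSingle_mem (H := (Perm.sign.comp (act kk)).eqLocus (tot kk)) g
        fun i => (hs i (g i)).trans (tot_single kk i (g i)).symm
    intro i x
    let f : Pt (kk i) ↪ Σ i, Pt (kk i) := ⟨fun a => ⟨i, a⟩, fun a b h => by simpa using h⟩
    have h1 : act kk (Pi.mulSingle i x) = Perm.viaEmbedding (x : Perm (Pt (kk i))) f := by
      refine Equiv.ext fun p => ?_
      obtain ⟨l, a⟩ := p
      show (⟨l, ((Pi.mulSingle i x : PW kk) l : Perm (Pt (kk l))) a⟩ : Σ i, Pt (kk i)) = _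
      by_cases hl : l = i
      · subst hl
        rw [Pi.mulSingle_eq_same]
        exact (Perm.viaEmbedding_apply _ f a).symm
      · rw [Pi.mulSingle_eq_of_ne hl, Perm.viaEmbedding_apply_of_notMem]
        · rfl
        · rintro ⟨b, hb⟩
          exact hl (congrArg Sigma.fst hb).symm
    rw [h1]
    unfold Perm.viaEmbedding
    refine Eq.trans ?_ (Perm.sign_extendDomain (x : Perm (Pt (kk i))) (Equiv.ofInjective f f.injective))
    congr!
  exact congrArg (fun φ : PW kk →* ℤˣ => φ g) h

/-- The transposition recording a sign. -/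
def flipHom {r : ℕ} (a b : Fin r) : ℤˣ →* Perm (Fin r) where
  toFun u := if u = 1 then 1 else Equiv.swap a b
  map_one' := if_pos rfl
  map_mul' u v := by
    rcases Int.units_eq_one_or u with rfl | rfl <;> rcases Int.units_eq_one_or v with rfl | rfl <;>
      simp [Equiv.swap_mul_self]

theorem sign_flipHom {r : ℕ} {a b : Fin r} (hab : a ≠ b) (u : ℤˣ) : Perm.sign (flipHom a b u) = u := by
  rcases Int.units_eq_one_or u with rfl | rfl
  · simp
  · show Perm.sign (if (-1 : ℤˣ) = 1 then (1 : Perm (Fin r)) else Equiv.swap a b) = -1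
    rw [if_neg (by decide), Perm.sign_swap hab]

/-- A subgroup of the product of the right order gives the Sylow 2-subgroup of the alternating group. -/
theorem sylow_iso {n r : ℕ} (hn : 2 ≤ n) (H : Subgroup (PW kk)) (hcard : (∑ i, 2 ^ kk i) + r = n)
    (τ : H →* Perm (Fin r)) (hτ : ∀ h : H, Perm.sign (τ h) = tot kk h)
    (hord : Nat.card H * 2 = 2 ^ padicValNat 2 n.factorial) (P : Sylow 2 (alternatingGroup (Fin n))) :
    Nonempty (H ≃* (P : Subgroup (alternatingGroup (Fin n)))) := by
  have hnt : Nontrivial (Fin n) := Fin.nontrivial_iff_two_le.2 hn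
  let e : ((Σ i, Pt (kk i)) ⊕ Fin r) ≃ Fin n := Fintype.equivFinOfCardEq (by
    rw [Fintype.card_sum, Fintype.card_sigma, Fintype.card_fin, Finset.sum_congr rfl fun i _ => card_pt (kk i)]
    exact hcard)
  let φ : H →* Perm (Fin n) :=
    (e.permCongrHom.toMonoidHom.comp (Perm.sumCongrHom _ _)).comp (((act kk).comp H.subtype).prod τ)
  have hφinj : Function.Injective φ := by
    intro a b hab
    have h1 := Perm.sumCongrHom_injective (e.permCongrHom.injective hab)
    exact Subtype.ext (act_injective kk (Prod.ext_iff.1 h1).1)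
  have hφalt : ∀ h, φ h ∈ alternatingGroup (Fin n) := by
    intro h
    rw [Perm.mem_alternatingGroup]
    show Perm.sign (e.permCongr (Perm.sumCongr (act kk h) (τ h))) = 1
    rw [Perm.sign_permCongr, Perm.sign_sumCongr, sign_act, hτ, Int.units_mul_self]
  let ψ := φ.codRestrict _ hφalt
  have hψinj : Function.Injective ψ := fun a b hab => hφinj (congrArg Subtype.val hab)
  have hA : 2 * Nat.card (alternatingGroup (Fin n)) = n.factorial := by
    rw [two_mul_nat_card_alternatingGroup, Nat.card_perm, Nat.card_fin]
  have hpos : 0 < Nat.card (alternatingGroup (Fin n)) := Nat.card_pos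
  have hv : padicValNat 2 n.factorial = padicValNat 2 (Nat.card (alternatingGroup (Fin n))) + 1 := by
    rw [← hA, padicValNat.mul (by norm_num) hpos.ne', padicValNat.self (by norm_num)]
    omega
  have hc : Nat.card ψ.range = 2 ^ (Nat.card (alternatingGroup (Fin n))).factorization 2 := by
    rw [Nat.card_congr (MonoidHom.ofInjective hψinj).toEquiv.symm, Nat.factorization_def _ Nat.prime_two]
    rw [hv, pow_succ] at hord
    omega
  exact ⟨(MonoidHom.ofInjective hψinj).trans (Sylow.equiv (Sylow.ofCard ψ.range hc) P)⟩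

end Cfsg.Agent.AltSylow
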