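import Cfsg.Agent.AltSylow.Wreath
import Cfsg.Prelude.Def_TwoFusion

/-!
Products of iterated wreath products, their even parts, and direct decompositions.
-/

set_option autoImplicit false

namespace Cfsg.Agent.AltSylow

open Equiv

/-- `G` is directly decomposable. -/
def Dec (G : Type*) [Group G] : Prop :=
  ∃ A B : Subgroup G, A ≠ ⊥ ∧ B ≠ ⊥ ∧ (∀ a ∈ A, ∀ b ∈ B, a * b = b * a) ∧ A ⊓ B = ⊥ ∧ A ⊔ B = ⊤

theorem Dec.of_equiv {G H : Type*} [Group G] [Group H] (e : G ≃* H) (h : Dec G) : Dec H := by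
  obtain ⟨A, B, hA, hB, hc, hi, hs⟩ := h
  refine ⟨A.map e.toMonoidHom, B.map e.toMonoidHom, ?_, ?_, ?_, ?_, ?_⟩
  · rwa [Ne, Subgroup.map_eq_bot_iff_of_injective _ e.injective]
  · rwa [Ne, Subgroup.map_eq_bot_iff_of_injective _ e.injective]
  · rintro _ ⟨a, ha, rfl⟩ _ ⟨b, hb, rfl⟩
    rw [← map_mul, ← map_mul, hc a ha b hb]
  · rw [← Subgroup.map_inf _ _ _ e.injective, hi, Subgroup.map_bot]
  · rw [← Subgroup.map_sup, hs, Subgroup.map_top_of_surjective _ e.surjective]

theorem dec_subgroup_iff {G : Type*} [Group G] (P : Subgroup G) :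
    (∃ S₁ S₂ : Subgroup G, S₁ ≠ ⊥ ∧ S₂ ≠ ⊥ ∧ Cfsg.IsInternalDirectProduct S₁ S₂ P) ↔ Dec P := by
  constructor
  · rintro ⟨A, B, hA, hB, hAP, hBP, hc, hi, hs⟩
    refine ⟨A.subgroupOf P, B.subgroupOf P, ?_, ?_, ?_, ?_, ?_⟩
    · rw [Ne, Subgroup.subgroupOf_eq_bot, disjoint_iff, inf_eq_left.2 hAP]; exact hA
    · rw [Ne, Subgroup.subgroupOf_eq_bot, disjoint_iff, inf_eq_left.2 hBP]; exact hB
    · exact fun a ha b hb => Subtype.ext (hc _ ha _ hb)
    · refine (Subgroup.eq_bot_iff_forall _).2 fun x hx => Subtype.ext ?_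
      exact Subgroup.mem_bot.1 (hi ▸ (⟨hx.1, hx.2⟩ : (x : G) ∈ A ⊓ B))
    · rw [← Subgroup.subgroupOf_sup hAP hBP, hs, Subgroup.subgroupOf_self]
  · rintro ⟨A, B, hA, hB, hc, hi, hs⟩
    refine ⟨A.map P.subtype, B.map P.subtype, ?_, ?_, Subgroup.map_subtype_le _, Subgroup.map_subtype_le _,
      ?_, ?_, ?_⟩
    · rwa [Ne, Subgroup.map_eq_bot_iff_of_injective _ P.subtype_injective]
    · rwa [Ne, Subgroup.map_eq_bot_iff_of_injective _ P.subtype_injective]
    · rintro _ ⟨a, ha, rfl⟩ _ ⟨b, hb, rfl⟩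
      rw [← map_mul, ← map_mul, hc a ha b hb]
    · rw [← Subgroup.map_inf _ _ _ P.subtype_injective, hi, Subgroup.map_bot]
    · rw [← Subgroup.map_sup, hs, ← MonoidHom.range_eq_map, Subgroup.range_subtype]

/-- Commuting generating subgroups are normal. -/
theorem normal_of_commute {G : Type*} [Group G] {A B : Subgroup G} (hc : ∀ a ∈ A, ∀ b ∈ B, a * b = b * a)
    (hs : A ⊔ B = ⊤) : A.Normal := by
  refine Subgroup.normalizer_eq_top_iff.1 (top_le_iff.1 (hs ▸ sup_le Subgroup.le_normalizer ?_))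
  intro b hb
  rw [Subgroup.mem_normalizer_iff]
  intro a
  constructor
  · intro ha
    rwa [← hc a ha b hb, mul_inv_cancel_right]
  · intro ha
    have h := hc _ ha b hb
    have h2 : b * a * b⁻¹ = a := by
      have h3 : b * a = b * (b * a * b⁻¹) := by rw [← h]; group
      exact (mul_left_cancel h3).symm
    rwa [h2] at ha

/-- A `2`-group with at most two central elements is indecomposable. -/
theorem not_dec_of_center {G : Type*} [Group G] [Finite G] (hG : IsPGroup 2 G)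
    (hZ : Nat.card (Subgroup.center G) ≤ 2) : ¬ Dec G := by
  rintro ⟨A, B, hA, hB, hc, hi, hs⟩
  have key : ∀ {X Y : Subgroup G}, X ≠ ⊥ → (∀ x ∈ X, ∀ y ∈ Y, x * y = y * x) → X ⊔ Y = ⊤ →
      ∃ z ∈ X, z ∈ Subgroup.center G ∧ z ≠ 1 := by
    intro X Y hX hc hs
    have : Nontrivial X := (Subgroup.nontrivial_iff_ne_bot X).2 hX
    have : Fact (Nat.Prime 2) := ⟨Nat.prime_two⟩
    obtain ⟨⟨z, hz⟩, hzc, hz1⟩ := (Subgroup.nontrivial_iff_exists_ne_one _).1 (hG.to_subgroup X).center_nontrivial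
    refine ⟨z, hz, ?_, fun h => hz1 (Subtype.ext h)⟩
    rw [Subgroup.mem_center_iff]
    have h : ⊤ ≤ Subgroup.centralizer ({z} : Set G) := by
      rw [← hs]
      refine sup_le (fun x hx => ?_) (fun y hy => ?_)
      · exact Subgroup.mem_centralizer_singleton_iff.2
          (congrArg Subtype.val (Subgroup.mem_center_iff.1 hzc ⟨x, hx⟩))
      · exact Subgroup.mem_centralizer_singleton_iff.2 (hc z hz y hy).symm
    exact fun g => Subgroup.mem_centralizer_singleton_iff.1 (h (Subgroup.mem_top g))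
  obtain ⟨a, haA, haz, ha⟩ := key hA hc hs
  obtain ⟨b, hbB, hbz, hb⟩ := key hB (fun x hx y hy => (hc y hy x hx).symm) (sup_comm A B ▸ hs)
  have hab : a ≠ b := by
    rintro rfl
    exact ha (Subgroup.mem_bot.1 (hi ▸ (⟨haA, hbB⟩ : a ∈ A ⊓ B)))
  have h3 : Function.Injective (fun i : Fin 3 =>
      (![⟨1, Subgroup.one_mem _⟩, ⟨a, haz⟩, ⟨b, hbz⟩] i : Subgroup.center G)) := by
    intro i j hij
    fin_cases i <;> fin_cases j <;> simp [Subtype.ext_iff, ha, hb, hab, eq_comm] at hij ⊢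
  have h4 := Nat.card_le_card_of_injective _ h3
  rw [Nat.card_fin] at h4
  omega

variable {ι : Type*} [Fintype ι] [DecidableEq ι] (kk : ι → ℕ)

/-- The product of the iterated wreath products. -/
abbrev PW := ∀ i, W (kk i)

/-- The total sign. -/
noncomputable def tot : PW kk →* ℤˣ where
  toFun g := ∏ i, sgn (kk i) (g i)
  map_one' := by simp
  map_mul' g h := by simp [Finset.prod_mul_distrib]

theorem tot_single (i : ι) (x : W (kk i)) : tot kk (Pi.mulSingle i x) = sgn (kk i) x := by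
  show ∏ j, sgn (kk j) ((Pi.mulSingle i x : PW kk) j) = _
  rw [Finset.prod_eq_single i (fun j _ hj => by rw [Pi.mulSingle_eq_of_ne hj, map_one])
    (fun h => absurd (Finset.mem_univ i) h), Pi.mulSingle_eq_same]

theorem card_PW : Nat.card (PW kk) = 2 ^ ∑ i, (2 ^ kk i - 1) := by
  rw [Nat.card_pi, ← Finset.prod_pow_eq_pow_sum]
  exact Finset.prod_congr rfl fun i _ => card_W _

theorem card_ker_tot (i₀ : ι) (h1 : 1 ≤ kk i₀) : Nat.card (tot kk).ker * 2 = Nat.card (PW kk) := by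
  obtain ⟨t, ht⟩ := exists_odd _ h1
  have hr : (tot kk).range = ⊤ := by
    refine MonoidHom.range_eq_top.2 fun u => ?_
    rcases Int.units_eq_one_or u with rfl | rfl
    · exact ⟨1, map_one _⟩
    · exact ⟨Pi.mulSingle i₀ t, by rw [tot_single, ht]⟩
  have h := Subgroup.index_ker (tot kk)
  rw [hr, Nat.card_congr Subgroup.topEquiv.toEquiv] at h
  have h2 := Subgroup.card_mul_index (tot kk).ker
  rw [h, Nat.card_eq_fintype_card (α := ℤˣ), Fintype.card_units_int] at h2
  exact h2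

theorem exists_fix {i : ι} {j : ι} (hij : i ≠ j) (hj : 1 ≤ kk j) (x : W (kk i)) :
    ∃ g : PW kk, tot kk g = 1 ∧ g i = x := by
  rcases Int.units_eq_one_or (sgn (kk i) x) with hx | hx
  · exact ⟨Pi.mulSingle i x, by rw [tot_single, hx], Pi.mulSingle_eq_same _ _⟩
  · obtain ⟨t, ht⟩ := exists_odd _ hj
    exact ⟨Pi.mulSingle i x * Pi.mulSingle j t, by rw [map_mul, tot_single, tot_single, hx, ht]; rfl,
      by rw [Pi.mul_apply, Pi.mulSingle_eq_same, Pi.mulSingle_eq_of_ne hij, mul_one]⟩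

theorem center_comp {z : PW kk} (i : ι) (hz : z ∈ Subgroup.center (PW kk)) :
    z i ∈ Subgroup.center (W (kk i)) := by
  rw [Subgroup.mem_center_iff] at hz ⊢
  intro y
  simpa using congrFun (hz (Pi.mulSingle i y)) i

/-- The full product is decomposable iff there are at least two factors. -/
theorem dec_PW (hk : ∀ i, 2 ≤ kk i) (i₀ : ι) : Dec (PW kk) ↔ ∃ j, j ≠ i₀ := by
  constructor
  · intro h
    by_contra hne
    push Not at hne
    have hG : IsPGroup 2 (PW kk) := IsPGroup.of_card (card_PW kk)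
    refine not_dec_of_center hG ?_ h
    refine le_trans (Nat.card_le_card_of_injective
      (fun z : Subgroup.center (PW kk) => (⟨(z : PW kk) i₀, center_comp kk i₀ z.2⟩ : Subgroup.center (W (kk i₀))))
      ?_) (card_center_le _)
    intro z w hzw
    refine Subtype.ext (funext fun i => ?_)
    obtain rfl := hne i
    exact congrArg Subtype.val hzw
  · rintro ⟨j, hj⟩
    obtain ⟨t, ht⟩ := exists_ne_one (k := kk i₀) (le_of_lt (hk i₀))
    obtain ⟨s, hs⟩ := exists_ne_one (k := kk j) (le_of_lt (hk j))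
    refine ⟨(MonoidHom.mulSingle (fun i => W (kk i)) i₀).range,
      (Pi.evalMonoidHom (fun i => W (kk i)) i₀).ker, ?_, ?_, ?_, ?_, ?_⟩
    · intro h
      have h1 : Pi.mulSingle i₀ t ∈ (⊥ : Subgroup (PW kk)) := h ▸ ⟨t, rfl⟩
      exact ht (by simpa using congrFun (Subgroup.mem_bot.1 h1) i₀)
    · intro h
      have h1 : Pi.mulSingle j s ∈ (⊥ : Subgroup (PW kk)) := h ▸ (MonoidHom.mem_ker.2 (Pi.mulSingle_eq_of_ne (M := fun i => W (kk i)) hj.symm s))
      exact hs (by simpa using congrFun (Subgroup.mem_bot.1 h1) j)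
    · rintro _ ⟨x, rfl⟩ b hb
      funext i
      have hb' : b i₀ = 1 := hb
      by_cases hi : i = i₀
      · subst hi; simp [hb']
      · simp [Pi.mulSingle_eq_of_ne hi]
    · refine (Subgroup.eq_bot_iff_forall _).2 ?_
      rintro _ ⟨⟨x, rfl⟩, hx⟩
      have hx' : x = 1 := by simpa using hx
      simp [hx']
    · refine top_le_iff.1 fun g _ => ?_
      rw [show g = Pi.mulSingle i₀ (g i₀) * ((Pi.mulSingle i₀ (g i₀))⁻¹ * g) by group]
      exact Subgroup.mul_mem_sup ⟨g i₀, rfl⟩ (by simp [MonoidHom.mem_ker])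

theorem not_dec_ker (hk : ∀ i, 2 ≤ kk i) (i₀ : ι) (hone : (∀ j, j = i₀) → 3 ≤ kk i₀) :
    ¬ Dec (tot kk).ker := by
  by_cases hex : ∀ j, j = i₀
  · have h3 := hone hex
    obtain ⟨m, hm⟩ : ∃ m, kk i₀ = m + 1 := ⟨kk i₀ - 1, by omega⟩
    have hG : IsPGroup 2 (PW kk) := IsPGroup.of_card (card_PW kk)
    refine not_dec_of_center (hG.to_subgroup _) ?_
    have hcen : ∀ z : Subgroup.center (tot kk).ker,
        ((z : (tot kk).ker) : PW kk) i₀ ∈ Subgroup.center (W (kk i₀)) := by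
      intro z
      have hev : ∀ g : W (kk i₀), sgn (kk i₀) g = 1 → Commute (((z : (tot kk).ker) : PW kk) i₀) g := by
        intro g hg
        have h := Subgroup.mem_center_iff.1 z.2 ⟨Pi.mulSingle i₀ g, by rw [MonoidHom.mem_ker, tot_single, hg]⟩
        have h2 := congrFun (congrArg Subtype.val h) i₀
        simp only [Subgroup.coe_mul, Pi.mul_apply, Pi.mulSingle_eq_same] at h2
        exact h2.symm
      revert hev
      generalize ((z : (tot kk).ker) : PW kk) i₀ = w
      revert w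
      rw [hm]
      exact fun w hev => mem_center_of_even (by omega) hev
    refine le_trans (Nat.card_le_card_of_injective
      (fun z => (⟨_, hcen z⟩ : Subgroup.center (W (kk i₀)))) ?_) (card_center_le _)
    intro z w hzw
    refine Subtype.ext (Subtype.ext (funext fun i => ?_))
    obtain rfl := hex i
    exact congrArg Subtype.val hzw
  push Not at hex
  obtain ⟨j₀, hj₀⟩ := hex
  have hother : ∀ i : ι, ∃ j, i ≠ j := fun i => by
    by_cases h : i = i₀
    · exact ⟨j₀, h ▸ hj₀.symm⟩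
    · exact ⟨i₀, h⟩
  rintro ⟨A, B, hA, hB, hc, hi, hs⟩
  have hcc : ∀ z ∈ Subgroup.center (tot kk).ker, ∀ i, (z : PW kk) i ∈ Subgroup.center (W (kk i)) := by
    intro z hz i
    rw [Subgroup.mem_center_iff]
    intro y
    obtain ⟨j, hij⟩ := hother i
    obtain ⟨g, hg, rfl⟩ := exists_fix kk hij (le_of_lt (hk j)) y
    exact congrFun (congrArg Subtype.val (Subgroup.mem_center_iff.1 hz ⟨g, hg⟩)) i
  have hcomm : Subgroup.center (tot kk).ker ≤ commutator (tot kk).ker := by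
    intro z hz
    have h := Subgroup.pi_mem_of_mulSingle_mem (H := (commutator (tot kk).ker).map (tot kk).ker.subtype)
      (z : PW kk) fun i => ?_
    · obtain ⟨w, hw, hwz⟩ := h
      rwa [← Subtype.ext hwz]
    obtain ⟨m, hm⟩ : ∃ m, kk i = m + 1 := ⟨kk i - 1, by have := hk i; omega⟩
    have hzi := hcc z hz i
    have hu : ∃ u s : W (kk i), sgn (kk i) s = 1 ∧ (z : PW kk) i = u * s * u⁻¹ * s⁻¹ := by
      have hki := hk i
      revert hzi
      generalize (z : PW kk) i = w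
      revert w hki
      rw [hm]
      intro hki w hzi
      obtain ⟨u, hu⟩ := center_eq_commutator (by omega) hzi
      exact ⟨u, el true 1, sgn_flip_even (by omega), hu⟩
    obtain ⟨u, s, hs1, huz⟩ := hu
    obtain ⟨j, hij⟩ := hother i
    obtain ⟨g, hg, hgi⟩ := exists_fix kk hij (le_of_lt (hk j)) u
    let e1 : (tot kk).ker := ⟨g, hg⟩
    let e2 : (tot kk).ker := ⟨Pi.mulSingle i s, by rw [MonoidHom.mem_ker, tot_single, hs1]⟩
    refine ⟨e1 * e2 * e1⁻¹ * e2⁻¹, ?_, ?_⟩
    · rw [commutator_def, ← commutatorElement_def]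
      exact Subgroup.commutator_mem_commutator (Subgroup.mem_top _) (Subgroup.mem_top _)
    · funext l
      by_cases hl : l = i
      · subst hl
        simp [e1, e2, hgi, huz]
      · simp [e1, e2, Pi.mulSingle_eq_of_ne hl]
  have hsurj : ∀ i, Function.Surjective ((Pi.evalMonoidHom (fun i => W (kk i)) i).comp (tot kk).ker.subtype) := by
    intro i y
    obtain ⟨j, hij⟩ := hother i
    obtain ⟨g, hg, rfl⟩ := exists_fix kk hij (le_of_lt (hk j)) y
    exact ⟨⟨g, hg⟩, rfl⟩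
  have hAn := normal_of_commute hc hs
  have hBn := normal_of_commute (fun b hb a ha => (hc a ha b hb).symm) (sup_comm A B ▸ hs)
  have hdich : ∀ i, (∀ a ∈ A, (a : PW kk) i ∈ Subgroup.center (W (kk i))) ∨
      (∀ b ∈ B, (b : PW kk) i ∈ Subgroup.center (W (kk i))) := by
    intro i
    let π := (Pi.evalMonoidHom (fun i => W (kk i)) i).comp (tot kk).ker.subtype
    have hcp : A.map π ≤ Subgroup.center _ ∨ B.map π ≤ Subgroup.center _ := by
      have hn1 : (A.map π).Normal := hAn.map _ (hsurj i)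
      have hn2 : (B.map π).Normal := hBn.map _ (hsurj i)
      have hc' : ∀ a ∈ A.map π, ∀ b ∈ B.map π, a * b = b * a := by
        rintro _ ⟨a, ha, rfl⟩ _ ⟨b, hb, rfl⟩
        rw [← map_mul, ← map_mul, hc a ha b hb]
      have hs' : A.map π ⊔ B.map π = ⊤ := by
        rw [← Subgroup.map_sup, hs, Subgroup.map_top_of_surjective _ (hsurj i)]
      have hki := hk i
      revert hn1 hn2 hc' hs'
      generalize A.map π = X
      generalize B.map π = Y
      revert X Y hki
      obtain ⟨m, hm⟩ : ∃ m, kk i = m + 1 := ⟨kk i - 1, by have := hk i; omega⟩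
      rw [hm]
      exact fun hki X Y h1 h2 h3 h4 => central_product (by omega) X Y h1 h2 h3 h4
    rcases hcp with h | h
    · exact Or.inl fun a ha => h ⟨a, ha, rfl⟩
    · exact Or.inr fun b hb => h ⟨b, hb, rfl⟩
  have hfinish : ∀ {X Y : Subgroup (tot kk).ker}, Y ≠ ⊥ → X.Normal →
      (∀ x ∈ X, ∀ y ∈ Y, x * y = y * x) → X ⊓ Y = ⊥ → X ⊔ Y = ⊤ →
      (∀ y ∈ Y, ∀ i, (y : PW kk) i ∈ Subgroup.center (W (kk i))) → False := by
    intro X Y hY hXn hc hi hs hcen
    have hYz : Y ≤ Subgroup.center (tot kk).ker := fun y hy => Subgroup.mem_center_iff.2 fun g =>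
      Subtype.ext (funext fun i => Subgroup.mem_center_iff.1 (hcen y hy i) _)
    have hle : commutator (tot kk).ker ≤ X := by
      rw [commutator_def, Subgroup.commutator_le]
      intro g _ h _
      have hg : g ∈ X ⊔ Y := hs ▸ Subgroup.mem_top g
      have hh : h ∈ X ⊔ Y := hs ▸ Subgroup.mem_top h
      obtain ⟨a, ha, b, hb, rfl⟩ := (letI := hXn; Subgroup.mem_sup_of_normal_left).1 hg
      obtain ⟨a', ha', b', hb', rfl⟩ := (letI := hXn; Subgroup.mem_sup_of_normal_left).1 hh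
      have hz := fun g => Subgroup.mem_center_iff.1 (hYz hb) g
      have hz' := fun g => Subgroup.mem_center_iff.1 (hYz hb') g
      have : a * b * (a' * b') * (a * b)⁻¹ * (a' * b')⁻¹ = a * a' * a⁻¹ * a'⁻¹ := by
        rw [mul_inv_rev, mul_inv_rev]
        have e1 : a * b * (a' * b') = a * a' * (b * b') := by
          rw [mul_assoc, ← mul_assoc b, ← hz a', mul_assoc, ← mul_assoc]
        have e2 : b⁻¹ * a⁻¹ * (b'⁻¹ * a'⁻¹) = (b * b')⁻¹ * (a⁻¹ * a'⁻¹) := by
          rw [mul_inv_rev, mul_assoc, ← mul_assoc a⁻¹]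
          have hq : a⁻¹ * b'⁻¹ = b'⁻¹ * a⁻¹ := ((show Commute a b' from hz' a).inv_inv)
          rw [hq, mul_assoc b'⁻¹, ← mul_assoc, show b⁻¹ * b'⁻¹ = b'⁻¹ * b⁻¹ from
            ((show Commute b b' from hz' b).inv_inv)]
        calc a * b * (a' * b') * (b⁻¹ * a⁻¹) * (b'⁻¹ * a'⁻¹)
            = (a * b * (a' * b')) * (b⁻¹ * a⁻¹ * (b'⁻¹ * a'⁻¹)) := by group
          _ = a * a' * a⁻¹ * a'⁻¹ := by rw [e1, e2]; group
      rw [commutatorElement_def, this]
      exact X.mul_mem (X.mul_mem (X.mul_mem ha ha') (X.inv_mem ha)) (X.inv_mem ha')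
    refine hY ((Subgroup.eq_bot_iff_forall _).2 fun y hy => ?_)
    exact Subgroup.mem_bot.1 (hi ▸ (⟨hle (hcomm (hYz hy)), hy⟩ : y ∈ X ⊓ Y))
  by_cases h1 : ∀ i, ∀ b ∈ B, (b : PW kk) i ∈ Subgroup.center (W (kk i))
  · exact hfinish hB hAn hc hi hs fun b hb i => h1 i b hb
  by_cases h2 : ∀ i, ∀ a ∈ A, (a : PW kk) i ∈ Subgroup.center (W (kk i))
  · exact hfinish hA hBn (fun b hb a ha => (hc a ha b hb).symm) (inf_comm A B ▸ hi) (sup_comm A B ▸ hs)
      fun a ha i => h2 i a ha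
  classical
  push Not at h1 h2
  obtain ⟨j, bj, hbj, hbjc⟩ := h1
  obtain ⟨i, ai, hai, haic⟩ := h2
  have hjA : ∀ a ∈ A, (a : PW kk) j ∈ Subgroup.center (W (kk j)) :=
    (hdich j).resolve_right fun h => hbjc (h bj hbj)
  have hij : i ≠ j := fun h => haic (h ▸ hjA ai hai : (ai : PW kk) i ∈ _)
  let J : Finset ι := Finset.univ.filter fun l => ∀ b ∈ B, (b : PW kk) l ∈ Subgroup.center (W (kk l))
  have hiJ : i ∈ J := Finset.mem_filter.2 ⟨Finset.mem_univ _, (hdich i).resolve_left fun h => haic (h ai hai)⟩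
  have hjJ : j ∉ J := fun h => hbjc ((Finset.mem_filter.1 h).2 bj hbj)
  have hsB : ∀ b ∈ B, ∏ l ∈ J, sgn (kk l) ((b : PW kk) l) = 1 := fun b hb =>
    Finset.prod_eq_one fun l hl => sgn_center (hk l) ((Finset.mem_filter.1 hl).2 b hb)
  have hsA : ∀ a ∈ A, ∏ l ∈ J, sgn (kk l) ((a : PW kk) l) = 1 := by
    intro a ha
    have h : tot kk (a : PW kk) = 1 := a.2
    change ∏ l, sgn (kk l) ((a : PW kk) l) = 1 at h
    rwa [← Finset.prod_mul_prod_compl J, Finset.prod_eq_one (s := Jᶜ) fun l hl => sgn_center (hk l)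
      ((hdich l).resolve_right (fun hB' => Finset.mem_compl.1 hl (Finset.mem_filter.2 ⟨Finset.mem_univ _, hB'⟩))
        a ha), mul_one] at h
  obtain ⟨t, ht⟩ := exists_odd _ (le_of_lt (hk i))
  obtain ⟨t', ht'⟩ := exists_odd _ (le_of_lt (hk j))
  let e : (tot kk).ker := ⟨Pi.mulSingle i t * Pi.mulSingle j t', by
    rw [MonoidHom.mem_ker, map_mul, tot_single, tot_single, ht, ht']; rfl⟩
  have he : e ∈ A ⊔ B := hs ▸ Subgroup.mem_top e
  obtain ⟨a, ha, b, hb, hab⟩ := (letI := hAn; Subgroup.mem_sup_of_normal_left).1 he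
  have hprod : ∏ l ∈ J, sgn (kk l) ((e : PW kk) l) = 1 := by
    rw [← hab]
    simp only [Subgroup.coe_mul, Pi.mul_apply, map_mul, Finset.prod_mul_distrib, hsA a ha, hsB b hb, one_mul]
  rw [Finset.prod_eq_single i (fun l hl hli => by
      have hlj : l ≠ j := fun h => hjJ (h ▸ hl)
      simp [e, Pi.mulSingle_eq_of_ne hli, Pi.mulSingle_eq_of_ne hlj]) (fun h => absurd hiJ h)] at hprod
  simp [e, Pi.mulSingle_eq_of_ne hij, ht] at hprod

end Cfsg.Agent.AltSylow
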