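import Mathlib

/-!
The iterated wreath products `C₂ ≀ ... ≀ C₂` as permutation groups, their centres, and the fact that
they are not central products.
-/

set_option autoImplicit false

namespace Cfsg.Agent.AltSylow

open Equiv

/-- `2 ^ k` points. -/
@[reducible] def Pt : ℕ → Type
  | 0 => Unit
  | k + 1 => Bool × Pt k

instance instFintypePt : ∀ k, Fintype (Pt k)
  | 0 => inferInstanceAs (Fintype Unit)
  | k + 1 => @instFintypeProd Bool (Pt k) _ (instFintypePt k)

instance instDecEqPt : ∀ k, DecidableEq (Pt k)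
  | 0 => inferInstanceAs (DecidableEq Unit)
  | k + 1 => @instDecidableEqProd Bool (Pt k) _ (instDecEqPt k)

theorem nonempty_pt : ∀ k, Nonempty (Pt k)
  | 0 => ⟨()⟩
  | k + 1 => ⟨(false, (nonempty_pt k).some)⟩

theorem card_pt : ∀ k, Fintype.card (Pt k) = 2 ^ k
  | 0 => rfl
  | k + 1 => by
    have h : Fintype.card (Pt (k + 1)) = Fintype.card (Bool × Pt k) := Fintype.card_congr (Equiv.refl _)
    rw [h, Fintype.card_prod, card_pt k, Fintype.card_bool, pow_succ']

variable {k : ℕ}

/-- Act by `w b` on the `b`-th half, then exchange the halves if `c`. -/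
def mk (c : Bool) (w : Bool → Perm (Pt k)) : Perm (Pt (k + 1)) where
  toFun p := (xor p.1 c, w p.1 p.2)
  invFun p := (xor p.1 c, (w (xor p.1 c))⁻¹ p.2)
  left_inv p := by
    obtain ⟨b, x⟩ := p
    cases b <;> cases c <;> simp <;> rfl
  right_inv p := by
    obtain ⟨b, x⟩ := p
    cases b <;> cases c <;> simp <;> rfl

theorem mk_apply (c : Bool) (w : Bool → Perm (Pt k)) (b : Bool) (x : Pt k) :
    mk c w (b, x) = (xor b c, w b x) := rfl

theorem mk_mul (c d : Bool) (w v : Bool → Perm (Pt k)) :
    mk c w * mk d v = mk (xor c d) (fun b => w (xor b d) * v b) := by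
  refine Equiv.ext fun p => ?_
  obtain ⟨b, x⟩ := p
  show (xor (xor b d) c, w (xor b d) (v b x)) = (xor b (xor c d), w (xor b d) (v b x))
  cases b <;> cases c <;> cases d <;> rfl

theorem mk_one : mk (k := k) false (fun _ => 1) = 1 := by
  refine Equiv.ext fun p => ?_
  obtain ⟨b, x⟩ := p
  cases b <;> rfl

theorem mk_inj {c d : Bool} {w v : Bool → Perm (Pt k)} (h : mk c w = mk d v) : c = d ∧ w = v := by
  obtain ⟨x⟩ := nonempty_pt k
  refine ⟨?_, funext fun b => Equiv.ext fun y => ?_⟩
  · have h1 : xor false c = xor false d :=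
      congrArg (fun g : Perm (Pt (k + 1)) => (g (false, x)).1) h
    simpa using h1
  · exact congrArg (fun g : Perm (Pt (k + 1)) => (g (b, y)).2) h

/-- `H ≀ C₂`. -/
def wr (H : Subgroup (Perm (Pt k))) : Subgroup (Perm (Pt (k + 1))) where
  carrier := {g | ∃ c w, (∀ b, w b ∈ H) ∧ g = mk c w}
  one_mem' := ⟨false, fun _ => 1, fun _ => H.one_mem, mk_one.symm⟩
  mul_mem' := by
    rintro _ _ ⟨c, w, hw, rfl⟩ ⟨d, v, hv, rfl⟩
    exact ⟨_, _, fun b => H.mul_mem (hw _) (hv b), mk_mul c d w v⟩
  inv_mem' := by
    rintro _ ⟨c, w, hw, rfl⟩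
    refine ⟨c, fun b => (w (xor b c))⁻¹, fun b => H.inv_mem (hw _), ?_⟩
    refine inv_eq_of_mul_eq_one_right ?_
    rw [mk_mul, Bool.xor_self, ← mk_one]
    simp

/-- The iterated wreath product. -/
def W : ∀ k, Subgroup (Perm (Pt k))
  | 0 => ⊥
  | k + 1 => wr (W k)

/-- An element of `W (k + 1)`. -/
def el (c : Bool) (w : Bool → W k) : W (k + 1) :=
  ⟨mk c (fun b => (w b : Perm (Pt k))), c, _, fun b => (w b).2, rfl⟩

theorem el_coe (c : Bool) (w : Bool → W k) :
    (el c w : Perm (Pt (k + 1))) = mk c (fun b => (w b : Perm (Pt k))) := rfl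

theorem el_mul (c d : Bool) (w v : Bool → W k) :
    el c w * el d v = el (xor c d) (fun b => w (xor b d) * v b) :=
  Subtype.ext (mk_mul c d _ _)

theorem el_one : el (k := k) false 1 = 1 := Subtype.ext mk_one

theorem el_inj {c d : Bool} {w v : Bool → W k} (h : el c w = el d v) : c = d ∧ w = v := by
  obtain ⟨h1, h2⟩ := mk_inj (show mk c (fun b => (w b : Perm (Pt k))) = mk d (fun b => (v b : Perm (Pt k))) from congrArg Subtype.val h)
  exact ⟨h1, funext fun b => Subtype.ext (congrFun h2 b)⟩

theorem exists_el (g : W (k + 1)) : ∃ c w, g = el c w := by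
  obtain ⟨g, c, w, hw, rfl⟩ := g
  exact ⟨c, fun b => ⟨w b, hw b⟩, rfl⟩

theorem card_W : ∀ k, Nat.card (W k) = 2 ^ (2 ^ k - 1)
  | 0 => by
    show Nat.card (⊥ : Subgroup (Perm (Pt 0))) = 2 ^ (2 ^ 0 - 1)
    rw [Subgroup.card_bot]; rfl
  | k + 1 => by
    have h : Nat.card (W (k + 1)) = Nat.card (Bool × (Bool → W k)) :=
      (Nat.card_congr (Equiv.ofBijective (fun p : Bool × (Bool → W k) => el p.1 p.2)
        ⟨fun p q h => Prod.ext (el_inj h).1 (el_inj h).2, fun g => by
          obtain ⟨c, w, rfl⟩ := exists_el g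
          exact ⟨(c, w), rfl⟩⟩)).symm
    rw [h, Nat.card_prod, Nat.card_fun, card_W k, Nat.card_eq_fintype_card, Fintype.card_bool, ← pow_mul,
      ← pow_succ']
    congr 1
    have := Nat.one_le_two_pow (n := k)
    rw [pow_succ]
    omega

theorem isPGroup_W (k : ℕ) : IsPGroup 2 (W k) := IsPGroup.of_card (card_W k)

/-- The sign. -/
def sgn (k : ℕ) : W k →* ℤˣ := Perm.sign.comp (W k).subtype

theorem sgn_el_false (w : Bool → W k) : sgn (k + 1) (el false w) = sgn k (w false) * sgn k (w true) := by
  have h : mk false (fun b => (w b : Perm (Pt k))) = Equiv.prodCongrRight (fun b => (w b : Perm (Pt k))) :=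
    Equiv.ext fun p => by
      obtain ⟨b, x⟩ := p
      rw [mk_apply, Bool.xor_false]
      rfl
  show Perm.sign (mk false fun b => (w b : Perm (Pt k))) = _
  rw [h]
  exact (Perm.sign_prodCongrRight _).trans (by rw [Fintype.prod_bool]; exact mul_comm _ _)

theorem sgn_flip : sgn (k + 1) (el true 1) = (-1) ^ 2 ^ k := by
  have h : mk true (fun b => ((1 : Bool → W k) b : Perm (Pt k))) =
      Equiv.prodCongrLeft (fun _ : Pt k => Equiv.swap false true) :=
    Equiv.ext fun p => by
      obtain ⟨b, x⟩ := p
      rw [mk_apply, Bool.xor_true]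
      cases b <;> rfl
  show Perm.sign (mk true fun b => ((1 : Bool → W k) b : Perm (Pt k))) = _
  rw [h]
  refine (Perm.sign_prodCongrLeft _).trans ?_
  rw [Finset.prod_const, Perm.sign_swap (by decide), Finset.card_univ, card_pt]

theorem sgn_flip_even (hk : 1 ≤ k) : sgn (k + 1) (el true 1) = 1 := by
  rw [sgn_flip]
  exact Even.neg_one_pow (Nat.even_pow.2 ⟨even_two, by omega⟩)

theorem exists_odd : ∀ k, 1 ≤ k → ∃ t : W k, sgn k t = -1
  | 0, h => absurd h (by omega)
  | 1, _ => ⟨el true 1, by rw [sgn_flip]; rfl⟩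
  | k + 2, _ => by
    obtain ⟨t, ht⟩ := exists_odd (k + 1) (by omega)
    exact ⟨el false (Function.update 1 false t), by
      rw [sgn_el_false, Function.update_self, Function.update_of_ne (by decide)]
      simp [ht]⟩

theorem exists_ne_one (hk : 1 ≤ k) : ∃ t : W k, t ≠ 1 := by
  obtain ⟨t, ht⟩ := exists_odd k hk
  exact ⟨t, fun h => by rw [h, map_one] at ht; exact absurd ht (by decide)⟩

theorem exists_even_ne_one (hk : 1 ≤ k) : ∃ y : W (k + 1), sgn (k + 1) y = 1 ∧ y ≠ 1 :=
  ⟨el true 1, sgn_flip_even hk, fun h => by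
    rw [← el_one] at h
    exact Bool.noConfusion (el_inj h).1⟩

theorem commute_el_iff (c d : Bool) (w v : Bool → W k) :
    Commute (el c w) (el d v) ↔ ∀ b, w (xor b d) * v b = v (xor b c) * w b := by
  rw [Commute, SemiconjBy, el_mul, el_mul, Bool.xor_comm d c]
  exact ⟨fun h b => congrFun (el_inj h).2 b, fun h => congrArg (el _) (funext h)⟩

theorem update_one_apply_ne {b b' : Bool} (h : b' ≠ b) (y : W k) :
    Function.update (1 : Bool → W k) b y b' = 1 := by
  rw [Function.update_of_ne h]; rfl

/-- The form of a central element. -/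
theorem center_form (hk : 1 ≤ k) {z : W (k + 1)} (hz : z ∈ Subgroup.center (W (k + 1))) :
    ∃ x ∈ Subgroup.center (W k), z = el false (fun _ => x) := by
  obtain ⟨c, w, rfl⟩ := exists_el z
  rw [Subgroup.mem_center_iff] at hz
  have hc : c = false := by
    by_contra hc
    rw [Bool.not_eq_false] at hc
    subst hc
    obtain ⟨t, ht⟩ := exists_ne_one hk
    have h := (commute_el_iff _ _ _ _).1 (hz (el false (Function.update 1 false t))).symm false
    rw [Bool.xor_false, Bool.false_xor, Function.update_self, update_one_apply_ne (by decide), one_mul] at h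
    exact ht (mul_left_cancel (h.trans (mul_one _).symm))
  subst hc
  have heq : w false = w true := by
    have h := (commute_el_iff _ _ _ _).1 (hz (el true 1)).symm true
    simpa using h
  refine ⟨w false, ?_, congrArg (el false) (funext fun b => by cases b <;> simp [heq])⟩
  rw [Subgroup.mem_center_iff]
  intro y
  have h := (commute_el_iff _ _ _ _).1 (hz (el false (Function.update 1 false y))).symm false
  rw [Bool.xor_false, Function.update_self] at h
  exact h.symm

theorem card_center_le : ∀ k, Nat.card (Subgroup.center (W k)) ≤ 2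
  | 0 => le_trans (Subgroup.card_le_card_group _) (by rw [card_W]; norm_num)
  | 1 => le_trans (Subgroup.card_le_card_group _) (by rw [card_W]; norm_num)
  | k + 2 => by
    refine le_trans ?_ (card_center_le (k + 1))
    refine Nat.card_le_card_of_surjective
      (fun x : Subgroup.center (W (k + 1)) => (⟨el false (fun _ => (x : W (k + 1))), ?_⟩ :
        Subgroup.center (W (k + 2)))) ?_
    · rw [Subgroup.mem_center_iff]
      intro g
      obtain ⟨c, w, rfl⟩ := exists_el g
      exact (commute_el_iff _ _ _ _).2 fun b => by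
        cases c <;> cases b <;> simp [Subgroup.mem_center_iff.1 x.2]
    · rintro ⟨z, hz⟩
      obtain ⟨x, hx, rfl⟩ := center_form (by omega) hz
      exact ⟨⟨x, hx⟩, rfl⟩

theorem sq_eq_one_of_mem_center {x : W k} (hx : x ∈ Subgroup.center (W k)) : x * x = 1 := by
  by_contra h
  have h1 : x ≠ 1 := fun e => h (by rw [e, one_mul])
  classical
  have h3 : Function.Injective (fun i : Fin 3 =>
      (![⟨1, Subgroup.one_mem _⟩, ⟨x, hx⟩, ⟨x * x, Subgroup.mul_mem _ hx hx⟩] i : Subgroup.center (W k))) := by
    intro i j hij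
    fin_cases i <;> fin_cases j <;> simp [Subtype.ext_iff, h, h1, eq_comm] at hij ⊢
  have h4 := Nat.card_le_card_of_injective _ h3
  have h5 := card_center_le k
  rw [Nat.card_fin] at h4
  omega

theorem sgn_center (hk : 2 ≤ k) {z : W k} (hz : z ∈ Subgroup.center (W k)) : sgn k z = 1 := by
  obtain ⟨j, rfl⟩ : ∃ j, k = j + 1 := ⟨k - 1, by omega⟩
  obtain ⟨x, -, rfl⟩ := center_form (by omega) hz
  rw [sgn_el_false]
  exact Int.units_mul_self _

/-- Central elements are commutators `[(x, 1), σ]`. -/
theorem center_eq_commutator (hk : 1 ≤ k) {z : W (k + 1)} (hz : z ∈ Subgroup.center (W (k + 1))) :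
    ∃ u : W (k + 1), z = u * el true 1 * u⁻¹ * (el true 1)⁻¹ := by
  obtain ⟨x, hx, rfl⟩ := center_form hk hz
  refine ⟨el false (Function.update 1 false x), eq_mul_inv_of_mul_eq (eq_mul_inv_of_mul_eq ?_)⟩
  rw [el_mul, el_mul, el_mul]
  refine congrArg₂ el rfl (funext fun b => ?_)
  cases b <;> simp [sq_eq_one_of_mem_center hx]

/-- An even element commuting with every even element is central (`2 ≤ k`). -/
theorem mem_center_of_even (hk : 2 ≤ k) {z : W (k + 1)}
    (hz : ∀ g : W (k + 1), sgn (k + 1) g = 1 → Commute z g) : z ∈ Subgroup.center (W (k + 1)) := by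
  obtain ⟨j, rfl⟩ : ∃ j, k = j + 1 := ⟨k - 1, by omega⟩
  obtain ⟨c, w, rfl⟩ := exists_el z
  have hsingle : ∀ b (y : W (j + 1)), sgn (j + 1) y = 1 → Commute (el c w) (el false (Function.update 1 b y)) := by
    intro b y hy
    refine hz _ ?_
    rw [sgn_el_false]
    cases b <;> simp [hy, Function.update_of_ne]
  have hc : c = false := by
    by_contra hc
    rw [Bool.not_eq_false] at hc
    subst hc
    obtain ⟨y, hy, hy1⟩ := exists_even_ne_one (k := j) (by omega)
    have h := (commute_el_iff _ _ _ _).1 (hsingle false y hy) false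
    rw [Bool.xor_false, Bool.false_xor, Function.update_self, update_one_apply_ne (by decide), one_mul] at h
    exact hy1 (mul_left_cancel (h.trans (mul_one _).symm))
  subst hc
  have heq : w false = w true := by
    have h := (commute_el_iff _ _ _ _).1 (hz (el true 1) (sgn_flip_even (by omega))) true
    simpa using h
  obtain ⟨t, ht⟩ := exists_odd (j + 1) (by omega)
  have hall : ∀ y : W (j + 1), Commute (w false) y := by
    have heven : ∀ y : W (j + 1), sgn (j + 1) y = 1 → Commute (w false) y := by
      intro y hy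
      have h := (commute_el_iff _ _ _ _).1 (hsingle false y hy) false
      rw [Bool.xor_false, Function.update_self] at h
      exact h
    have htc : Commute (w false) t := by
      have h := (commute_el_iff _ _ _ _).1 (hz (el false fun _ => t) (by rw [sgn_el_false, ht]; rfl)) false
      rw [Bool.xor_false] at h
      exact h
    intro y
    rcases Int.units_eq_one_or (sgn (j + 1) y) with hy | hy
    · exact heven y hy
    · have := heven (y * t⁻¹) (by rw [map_mul, map_inv, hy, ht]; rfl)
      simpa using this.mul_right htc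
  rw [Subgroup.mem_center_iff]
  intro g
  obtain ⟨d, v, rfl⟩ := exists_el g
  refine ((commute_el_iff _ _ _ _).2 fun b => ?_).symm
  rw [Bool.xor_false]
  cases d <;> cases b <;> simp [← heq, (hall _).eq]

/-- A base element whose conjugates commute with an element outside the base has central components. -/
theorem base_comp_central {u v : Bool → W k}
    (h : ∀ y : Bool → W k, Commute (el true u) (el false y * el false v * (el false y)⁻¹)) (b : Bool) :
    v b ∈ Subgroup.center (W k) := by
  rw [Subgroup.mem_center_iff]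
  intro y
  have hinv : ∀ y' : Bool → W k, (el false y')⁻¹ = el false (fun b => (y' b)⁻¹) := fun y' =>
    inv_eq_of_mul_eq_one_right (by rw [el_mul, ← el_one]; simp; rfl)
  have h0 : Commute (el true u) (el false v) := by
    have := h 1
    rwa [el_one, one_mul, inv_one, mul_one] at this
  have h1 := (commute_el_iff _ _ _ _).1 h0 b
  have h2 := h (Function.update 1 b y)
  rw [hinv, el_mul, el_mul] at h2
  have h3 := (commute_el_iff _ _ _ _).1 h2 b
  simp only [Bool.xor_false, Function.update_self] at h1 h3
  rw [show xor b true = !b from Bool.xor_true b] at h1 h3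
  rw [update_one_apply_ne (by cases b <;> decide), one_mul, inv_one, mul_one] at h3
  have h4 : y * v b * y⁻¹ = v b := mul_left_cancel (h3.trans h1.symm)
  exact mul_inv_eq_iff_eq_mul.1 h4

/-- `W (k + 1)` is not a central product. -/
theorem central_product (hk : 1 ≤ k) (A B : Subgroup (W (k + 1))) (hAn : A.Normal) (hBn : B.Normal)
    (hcom : ∀ a ∈ A, ∀ b ∈ B, a * b = b * a) (hsup : A ⊔ B = ⊤) :
    A ≤ Subgroup.center _ ∨ B ≤ Subgroup.center _ := by
  have hbase : ∀ {X Y : Subgroup (W (k + 1))}, X.Normal → (∀ x ∈ X, ∀ y ∈ Y, Commute x y) →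
      ∀ {u : Bool → W k}, el true u ∈ Y → ∀ {v}, el false v ∈ X → ∀ b, v b ∈ Subgroup.center (W k) :=
    fun hX hXY _ hu _ hv b => base_comp_central (fun y => (hXY _ (hX.conj_mem _ hv _) _ hu).symm) b
  have hbc : ∀ {v : Bool → W k}, (∀ b, v b ∈ Subgroup.center (W k)) →
      ∀ w, Commute (el false v) (el false w) := fun hv w =>
    (commute_el_iff _ _ _ _).2 fun b => by
      rw [Bool.xor_false]
      exact (Subgroup.mem_center_iff.1 (hv b) _).symm
  have hcentral : ∀ {v u : Bool → W k}, (∀ b, v b ∈ Subgroup.center (W k)) →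
      Commute (el false v) (el true u) → el false v ∈ Subgroup.center (W (k + 1)) := by
    intro v u hv hu
    rw [Subgroup.mem_center_iff]
    intro g
    obtain ⟨c, w, rfl⟩ := exists_el g
    cases c
    · exact (hbc hv w).symm
    · have h : el true w = el true u * el false (fun b => (u b)⁻¹ * w b) := by
        rw [el_mul]; simp
      rw [h]
      exact (hu.mul_right (hbc hv _)).symm
  by_cases hA : ∃ u, el true u ∈ A
  swap
  · by_cases hB : ∃ u, el true u ∈ B
    · obtain ⟨u, hu⟩ := hB
      refine Or.inl fun x hx => ?_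
      obtain ⟨c, v, rfl⟩ := exists_el x
      cases c
      · exact hcentral (hbase hAn hcom hu hx) (hcom _ hx _ hu)
      · exact absurd ⟨v, hx⟩ hA
    · exfalso
      let base : Subgroup (W (k + 1)) :=
        { carrier := {g | ∃ v, g = el false v}
          one_mem' := ⟨1, el_one.symm⟩
          mul_mem' := by
            rintro _ _ ⟨v, rfl⟩ ⟨w, rfl⟩
            exact ⟨_, el_mul _ _ _ _⟩
          inv_mem' := by
            rintro _ ⟨v, rfl⟩
            exact ⟨fun b => (v b)⁻¹, inv_eq_of_mul_eq_one_right (by rw [el_mul, ← el_one]; simp; rfl)⟩ }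
      have h : A ⊔ B ≤ base := by
        refine sup_le ?_ ?_
        · intro x hx
          obtain ⟨c, v, rfl⟩ := exists_el x
          cases c
          · exact ⟨v, rfl⟩
          · exact absurd ⟨v, hx⟩ hA
        · intro x hx
          obtain ⟨c, v, rfl⟩ := exists_el x
          cases c
          · exact ⟨v, rfl⟩
          · exact absurd ⟨v, hx⟩ hB
      rw [hsup] at h
      obtain ⟨v, hv⟩ := h (Subgroup.mem_top (el true 1))
      exact Bool.noConfusion (el_inj hv).1
  obtain ⟨u, hu⟩ := hA
  have hBA : ∀ x ∈ B, ∀ y ∈ A, Commute x y := fun x hx y hy => (hcom y hy x hx).symm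
  by_cases hB : ∃ u', el true u' ∈ B
  swap
  · refine Or.inr fun x hx => ?_
    obtain ⟨c, v, rfl⟩ := exists_el x
    cases c
    · exact hcentral (hbase hBn hBA hu hx) (hBA _ hx _ hu)
    · exact absurd ⟨v, hx⟩ hB
  obtain ⟨u', hu'⟩ := hB
  exfalso
  have hab : el true u * el true u' = el false (fun b => u (xor b true) * u' b) := el_mul _ _ _ _
  have hAz : ∀ {v}, el false v ∈ A → el false v ∈ Subgroup.center (W (k + 1)) := fun {v} hv =>
    hcentral (hbase hAn hcom hu' hv) (hcom _ hv _ hu')
  have hBz : ∀ {v}, el false v ∈ B → el false v ∈ Subgroup.center (W (k + 1)) := fun {v} hv =>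
    hcentral (hbase hBn hBA hu hv) (hBA _ hv _ hu)
  have hgen : ∀ {X : Subgroup (W (k + 1))} {e : Bool → W k}, el true e ∈ X →
      (∀ {v}, el false v ∈ X → el false v ∈ Subgroup.center (W (k + 1))) →
      X ≤ Subgroup.closure ({el true e} ∪ (Subgroup.center (W (k + 1)) : Set (W (k + 1)))) := by
    intro X e he hXz x hx
    obtain ⟨c, v, rfl⟩ := exists_el x
    cases c
    · exact Subgroup.subset_closure (Or.inr (hXz hx))
    · have h : el true e * ((el true e)⁻¹ * el true v) = el true v := by group
      rw [← h]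
      refine Subgroup.mul_mem _ (Subgroup.subset_closure (Or.inl rfl)) (Subgroup.subset_closure (Or.inr ?_))
      obtain ⟨d, r, hr⟩ := exists_el ((el true e)⁻¹ * el true v)
      have hd : d = false := by
        have h1 : el true e * el d r = el true v := by rw [← hr]; group
        rw [el_mul] at h1
        have := (el_inj h1).1
        cases d <;> simp_all
      subst hd
      rw [hr]
      refine hXz ?_
      rw [← hr]
      exact X.mul_mem (X.inv_mem he) hx
  have hS : (⊤ : Subgroup (W (k + 1))) ≤
      Subgroup.closure ({el true u, el true u'} ∪ (Subgroup.center (W (k + 1)) : Set (W (k + 1)))) := by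
    rw [← hsup]
    exact sup_le ((hgen hu hAz).trans (Subgroup.closure_mono (Set.union_subset_union_left _ (by simp))))
      ((hgen hu' hBz).trans (Subgroup.closure_mono (Set.union_subset_union_left _ (by simp))))
  have hcomm : ∀ x y : W (k + 1), x * y = y * x := by
    intro x y
    refine Subgroup.closure_induction₂ (p := fun x y _ _ => Commute x y) ?_
      (fun _ _ => Commute.one_left _) (fun _ _ => Commute.one_right _)
      (fun _ _ _ _ _ _ h1 h2 => Commute.mul_left h1 h2) (fun _ _ _ _ _ _ h1 h2 => Commute.mul_right h1 h2)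
      (fun _ _ _ _ h => h.inv_left) (fun _ _ _ _ h => h.inv_right) (hS (Subgroup.mem_top x))
      (hS (Subgroup.mem_top y))
    rintro a b ha hb
    rcases ha with ha | ha
    · rcases hb with hb | hb
      · rcases ha with rfl | rfl <;> rcases hb with rfl | rfl
        · exact Commute.refl _
        · exact hcom _ hu _ hu'
        · exact (hcom _ hu _ hu').symm
        · exact Commute.refl _
      · exact Subgroup.mem_center_iff.1 hb a
    · exact (Subgroup.mem_center_iff.1 ha b).symm
  obtain ⟨t, ht⟩ := exists_ne_one hk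
  have h := (commute_el_iff _ _ _ _).1 (show Commute (el true (1 : Bool → W k))
    (el false (Function.update 1 false t)) from hcomm _ _) false
  simp at h
  exact ht h

end Cfsg.Agent.AltSylow
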